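import Groth.Agent.GrpScheme.Descent.Affine
import Groth.Prelude.Def_AlgGrp
import Mathlib.AlgebraicGeometry.Morphisms.LocalFlatDescent

/-!
# Associated bundles of torsors with affine fibre
-/

set_option autoImplicit false
set_option backward.isDefEq.respectTransparency false

universe u

open CategoryTheory MonoidalCategory CartesianMonoidalCategory MonObj GrpObj AlgebraicGeometry
  Limits

namespace Groth.Agent.GrpScheme.Descent

variable {B : Scheme.{u}} {G X Y Z : Over B} [GrpObj G] (a : AlgGrp.Action G X) (f : X ⟶ Y)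
  (hsq : IsPullback a.act.left (snd G X).left f.left f.left) (b : AlgGrp.Action G Z)

variable {T : Over B}

theorem act_mul {X' : Over B} (a' : AlgGrp.Action G X') (g h : T ⟶ G) (x : T ⟶ X') :
    lift (g * h) x ≫ a'.act = lift g (lift h x ≫ a'.act) ≫ a'.act := by
  have := lift (lift g h) x ≫= a'.mul_act
  simpa [Hom.mul_def] using this

theorem act_one {X' : Over B} (a' : AlgGrp.Action G X') (x : T ⟶ X') :
    lift (1 : T ⟶ G) x ≫ a'.act = x := by
  have := lift (toUnit T) x ≫= a'.one_act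
  simpa [Hom.one_def] using this

include hsq

theorem existsUnique_translate (x₀ x₁ : T ⟶ X) (h : x₀ ≫ f = x₁ ≫ f) :
    ∃! g : T ⟶ G, lift g x₀ ≫ a.act = x₁ := by
  have h' : x₁.left ≫ f.left = x₀.left ≫ f.left := by
    rw [← Over.comp_left, ← Over.comp_left, h]
  let l := hsq.lift x₁.left x₀.left h'
  let L : T ⟶ G ⊗ X := Over.homMk l (by
    rw [← Over.w (snd G X), ← Category.assoc, hsq.lift_snd]
    exact Over.w x₀)
  have hL₁ : L ≫ a.act = x₁ := Over.OverMorphism.ext (hsq.lift_fst _ _ _)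
  have hL₂ : L ≫ snd G X = x₀ := Over.OverMorphism.ext (hsq.lift_snd _ _ _)
  refine ⟨L ≫ fst G X, ?_, fun g hg => ?_⟩
  · dsimp only
    rw [← hL₂, lift_comp_fst_snd, hL₁]
  · have : lift g x₀ = L := by
      refine Over.OverMorphism.ext (hsq.hom_ext ?_ ?_)
      · rw [← Over.comp_left, ← Over.comp_left, hg, hL₁]
      · rw [← Over.comp_left, ← Over.comp_left, lift_snd, hL₂]
    rw [← this, lift_fst]

/-- The translating element. -/
noncomputable def translator (x₀ x₁ : T ⟶ X) (h : x₀ ≫ f = x₁ ≫ f) : T ⟶ G :=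
  (existsUnique_translate a f hsq x₀ x₁ h).choose

theorem translator_spec (x₀ x₁ : T ⟶ X) (h : x₀ ≫ f = x₁ ≫ f) :
    lift (translator a f hsq x₀ x₁ h) x₀ ≫ a.act = x₁ :=
  (existsUnique_translate a f hsq x₀ x₁ h).choose_spec.1

theorem eq_translator (x₀ x₁ : T ⟶ X) (h : x₀ ≫ f = x₁ ≫ f) (g : T ⟶ G)
    (hg : lift g x₀ ≫ a.act = x₁) : g = translator a f hsq x₀ x₁ h :=
  (existsUnique_translate a f hsq x₀ x₁ h).choose_spec.2 g hg

omit hsq in
/-- A morphism of schemes into an object over the base. -/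
def pointOf {T' : Scheme.{u}} {X' : Over B} (x : T' ⟶ X'.left) (s : T' ⟶ B) (h : x ≫ X'.hom = s) :
    Over.mk s ⟶ X' :=
  Over.homMk x h

/-- The translated point of the fibre. -/
noncomputable def transport {T' : Scheme.{u}} (x₀ x₁ : T' ⟶ X.left)
    (h : x₀ ≫ f.left = x₁ ≫ f.left) (z : T' ⟶ (X ⊗ Z).left) (hz : z ≫ (fst X Z).left = x₀) :
    T' ⟶ (X ⊗ Z).left :=
  (lift (pointOf x₁ (x₀ ≫ X.hom) (by
      rw [← Over.w f, ← Category.assoc, ← h, Category.assoc, Over.w f]))
    (lift (translator a f hsq (pointOf x₀ (x₀ ≫ X.hom) rfl) (pointOf x₁ (x₀ ≫ X.hom) (by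
        rw [← Over.w f, ← Category.assoc, ← h, Category.assoc, Over.w f]))
        (Over.OverMorphism.ext h))
      (pointOf z (x₀ ≫ X.hom) (by rw [← hz, Category.assoc, Over.w]) ≫ snd X Z) ≫ b.act)).left

theorem transport_eq_aux {T'' : Scheme.{u}} (x : T'' ⟶ X.left) (s : T'' ⟶ B)
    (e : x ≫ X.hom = s) (x₁ : Over.mk s ⟶ X) (z : Over.mk s ⟶ Z) (g : Over.mk s ⟶ G)
    (hg : lift g (pointOf x s e) ≫ a.act = x₁) (h : x ≫ f.left = x₁.left ≫ f.left)
    (hz : (lift (pointOf x s e) z).left ≫ (fst X Z).left = x) :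
    transport a f hsq b x x₁.left h (lift (pointOf x s e) z).left hz =
      (lift x₁ (lift g z ≫ b.act)).left := by
  subst e
  unfold transport
  congr 1
  refine congrArg₂ lift rfl ?_
  refine congrArg (· ≫ b.act) (congrArg₂ lift ?_ ?_)
  · exact (eq_translator a f hsq _ _ _ g hg).symm
  · exact lift_snd _ _

theorem transport_eq {T' : Over B} (x₀ x₁ : T' ⟶ X) (z : T' ⟶ Z) (g : T' ⟶ G)
    (hg : lift g x₀ ≫ a.act = x₁) (h : x₀.left ≫ f.left = x₁.left ≫ f.left)
    (hz : (lift x₀ z).left ≫ (fst X Z).left = x₀.left) :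
    transport a f hsq b x₀.left x₁.left h (lift x₀ z).left hz =
      (lift x₁ (lift g z ≫ b.act)).left :=
  transport_eq_aux a f hsq b x₀.left T'.hom (Over.w x₀) x₁ z g hg h hz

/-- The descent datum of the associated bundle. -/
noncomputable def bundleDatum : Desc.SchDD f.left where
  obj := Over.mk (fst X Z).left
  φ T' x₀ x₁ h :=
    { toFun := fun v => ⟨transport a f hsq b x₀ x₁ h v.1 v.2, by
        change _ ≫ (fst X Z).left = x₁
        unfold transport
        rw [← Over.comp_left, lift_fst]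
        rfl⟩
      invFun := fun v => ⟨transport a f hsq b x₁ x₀ h.symm v.1 v.2, by
        change _ ≫ (fst X Z).left = x₀
        unfold transport
        rw [← Over.comp_left, lift_fst]
        rfl⟩
      left_inv := fun v => by
        obtain ⟨v, rfl⟩ := v
        apply Subtype.ext
        dsimp only
        let T₀ : Over B := Over.mk (v ≫ (X ⊗ Z).hom)
        let V : T₀ ⟶ X ⊗ Z := Over.homMk v rfl
        have e : x₁ ≫ X.hom = v ≫ (X ⊗ Z).hom := by
          rw [← Over.w f, ← Category.assoc, ← h]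
          simp [Category.assoc]
        let X₁ : T₀ ⟶ X := Over.homMk x₁ e
        have hX : (V ≫ fst X Z) ≫ f = X₁ ≫ f := Over.OverMorphism.ext h
        let g := translator a f hsq _ _ hX
        have hg := translator_spec a f hsq _ _ hX
        have hg' : lift g⁻¹ X₁ ≫ a.act = V ≫ fst X Z := by
          rw [← hg, ← act_mul, inv_mul_cancel, act_one]
        have hV : v = (lift (V ≫ fst X Z) (V ≫ snd X Z)).left := by
          rw [lift_comp_fst_snd]; rfl
        have h1 := transport_eq a f hsq b (V ≫ fst X Z) X₁ (V ≫ snd X Z) g hg h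
          (by rw [← Over.comp_left, lift_fst])
        have h2 := transport_eq a f hsq b X₁ (V ≫ fst X Z) (lift g (V ≫ snd X Z) ≫ b.act) g⁻¹ hg'
          h.symm (by rw [← Over.comp_left, lift_fst])
        rw [← act_mul, inv_mul_cancel, act_one, ← hV] at h2
        simp only [← hV] at h1
        simp only [← h1] at h2
        exact h2
      right_inv := fun v => by
        obtain ⟨v, rfl⟩ := v
        apply Subtype.ext
        dsimp only
        let T₀ : Over B := Over.mk (v ≫ (X ⊗ Z).hom)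
        let V : T₀ ⟶ X ⊗ Z := Over.homMk v rfl
        have e : x₀ ≫ X.hom = v ≫ (X ⊗ Z).hom := by
          rw [← Over.w f, ← Category.assoc, h]
          simp [Category.assoc]
        let X₀ : T₀ ⟶ X := Over.homMk x₀ e
        have hX : (V ≫ fst X Z) ≫ f = X₀ ≫ f := Over.OverMorphism.ext h.symm
        let g := translator a f hsq _ _ hX
        have hg := translator_spec a f hsq _ _ hX
        have hg' : lift g⁻¹ X₀ ≫ a.act = V ≫ fst X Z := by
          rw [← hg, ← act_mul, inv_mul_cancel, act_one]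
        have hV : v = (lift (V ≫ fst X Z) (V ≫ snd X Z)).left := by
          rw [lift_comp_fst_snd]; rfl
        have h1 := transport_eq a f hsq b (V ≫ fst X Z) X₀ (V ≫ snd X Z) g hg h.symm
          (by rw [← Over.comp_left, lift_fst])
        have h2 := transport_eq a f hsq b X₀ (V ≫ fst X Z) (lift g (V ≫ snd X Z) ≫ b.act) g⁻¹ hg'
          h (by rw [← Over.comp_left, lift_fst])
        rw [← act_mul, inv_mul_cancel, act_one, ← hV] at h2
        simp only [← hV] at h1
        simp only [← h1] at h2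
        exact h2 }
  φ_natural T T' q x₀ x₁ h h' v v' hv := by
    obtain ⟨v, rfl⟩ := v
    change transport a f hsq b _ _ h' v'.1 v'.2 = q ≫ transport a f hsq b _ _ h v rfl
    let T₀ : Over B := Over.mk (v ≫ (X ⊗ Z).hom)
    let T₁ : Over B := Over.mk (q ≫ v ≫ (X ⊗ Z).hom)
    let Q : T₁ ⟶ T₀ := Over.homMk q rfl
    let V : T₀ ⟶ X ⊗ Z := Over.homMk v rfl
    have e : x₁ ≫ X.hom = v ≫ (X ⊗ Z).hom := by
      rw [← Over.w f, ← Category.assoc, ← h]
      simp [Category.assoc]
    let X₁ : T₀ ⟶ X := Over.homMk x₁ e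
    have hX : (V ≫ fst X Z) ≫ f = X₁ ≫ f := Over.OverMorphism.ext h
    let g := translator a f hsq _ _ hX
    have hg := translator_spec a f hsq _ _ hX
    have hg' : lift (Q ≫ g) (Q ≫ V ≫ fst X Z) ≫ a.act = Q ≫ X₁ := by
      rw [← comp_lift, Category.assoc, hg]
    have hV : v = (lift (V ≫ fst X Z) (V ≫ snd X Z)).left := by
      rw [lift_comp_fst_snd]; rfl
    have hQV : q ≫ v = (lift (Q ≫ V ≫ fst X Z) (Q ≫ V ≫ snd X Z)).left := by
      rw [← comp_lift, lift_comp_fst_snd]; rfl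
    have h1 := transport_eq a f hsq b (V ≫ fst X Z) X₁ (V ≫ snd X Z) g hg h
      (by rw [← Over.comp_left, lift_fst])
    have h2 := transport_eq a f hsq b (Q ≫ V ≫ fst X Z) (Q ≫ X₁) (Q ≫ V ≫ snd X Z) (Q ≫ g) hg'
      h' (by rw [← Over.comp_left, lift_fst])
    have h3 : lift (Q ≫ X₁) (lift (Q ≫ g) (Q ≫ V ≫ snd X Z) ≫ b.act) =
        Q ≫ lift X₁ (lift g (V ≫ snd X Z) ≫ b.act) := by
      rw [comp_lift, comp_lift_assoc]
    replace h2 := h2.trans (congrArg CommaMorphism.left h3)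
    simp only [← hQV] at h2
    simp only [← hV] at h1
    simp only [hv]
    exact h2.trans (congrArg (q ≫ ·) h1.symm)
  φ_self T x v := by
    obtain ⟨v, rfl⟩ := v
    apply Subtype.ext
    change transport a f hsq b _ _ rfl v rfl = v
    let T₀ : Over B := Over.mk (v ≫ (X ⊗ Z).hom)
    let V : T₀ ⟶ X ⊗ Z := Over.homMk v rfl
    have hV : v = (lift (V ≫ fst X Z) (V ≫ snd X Z)).left := by
      rw [lift_comp_fst_snd]; rfl
    have h1 := transport_eq a f hsq b (V ≫ fst X Z) (V ≫ fst X Z) (V ≫ snd X Z) 1 (act_one a _) rfl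
      (by rw [← Over.comp_left, lift_fst])
    rw [act_one] at h1
    simp only [← hV] at h1
    exact h1
  φ_comp T x₀ x₁ x₂ h₀₁ h₁₂ v := by
    obtain ⟨v, rfl⟩ := v
    apply Subtype.ext
    dsimp only [Equiv.coe_fn_mk]
    let T₀ : Over B := Over.mk (v ≫ (X ⊗ Z).hom)
    let V : T₀ ⟶ X ⊗ Z := Over.homMk v rfl
    have e₁ : x₁ ≫ X.hom = v ≫ (X ⊗ Z).hom := by
      rw [← Over.w f, ← Category.assoc, ← h₀₁]
      simp [Category.assoc]
    have e₂ : x₂ ≫ X.hom = v ≫ (X ⊗ Z).hom := by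
      rw [← e₁, ← Over.w f, ← Category.assoc, ← h₁₂, Category.assoc]
    let X₁ : T₀ ⟶ X := Over.homMk x₁ e₁
    let X₂ : T₀ ⟶ X := Over.homMk x₂ e₂
    have hX₁ : (V ≫ fst X Z) ≫ f = X₁ ≫ f := Over.OverMorphism.ext h₀₁
    have hX₂ : X₁ ≫ f = X₂ ≫ f := Over.OverMorphism.ext h₁₂
    let g₁ := translator a f hsq _ _ hX₁
    let g₂ := translator a f hsq _ _ hX₂
    have hg₁ := translator_spec a f hsq _ _ hX₁
    have hg₂ := translator_spec a f hsq _ _ hX₂
    have hg : lift (g₂ * g₁) (V ≫ fst X Z) ≫ a.act = X₂ := by rw [act_mul, hg₁, hg₂]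
    have hV : v = (lift (V ≫ fst X Z) (V ≫ snd X Z)).left := by
      rw [lift_comp_fst_snd]; rfl
    have h1 := transport_eq a f hsq b (V ≫ fst X Z) X₁ (V ≫ snd X Z) g₁ hg₁ h₀₁
      (by rw [← Over.comp_left, lift_fst])
    have h2 := transport_eq a f hsq b X₁ X₂ (lift g₁ (V ≫ snd X Z) ≫ b.act) g₂ hg₂ h₁₂
      (by rw [← Over.comp_left, lift_fst])
    have h3 := transport_eq a f hsq b (V ≫ fst X Z) X₂ (V ≫ snd X Z) (g₂ * g₁) hg
      (h₀₁.trans h₁₂) (by rw [← Over.comp_left, lift_fst])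
    rw [← act_mul] at h2
    simp only [← hV] at h1 h3
    simp only [← h1] at h2
    exact h2.trans h3.symm

/-- The associated bundle exists. -/
theorem exists_bundle [Flat f.left] [Surjective f.left] [QuasiCompact f.left] [IsAffineHom Z.hom] :
    ∃ (W : Over B) (φ : X ⊗ Z ⟶ W) (ψ : W ⟶ Y),
      IsPullback (fst X Z).left φ.left f.left ψ.left ∧
      lift ((G ◁ fst X Z) ≫ a.act) ((G ◁ snd X Z) ≫ b.act) ≫ φ = snd G (X ⊗ Z) ≫ φ := by
  let D := bundleDatum a f hsq b
  have : IsAffineHom D.obj.hom :=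
    MorphismProperty.pullback_fst (P := @IsAffineHom) X.hom Z.hom inferInstance
  obtain ⟨U, ⟨e⟩⟩ := effective_of_isAffineHom D
  let E : D.obj ≅ ((Desc.toDD f.left).obj U).obj :=
    { hom := e.inv.hom, inv := e.hom.hom
      hom_inv_id := congrArg Desc.SchDD.Hom.hom e.inv_hom_id
      inv_hom_id := congrArg Desc.SchDD.Hom.hom e.hom_inv_id }
  have hcart : IsPullback (fst X Z).left (E.hom.left ≫ pullback.snd f.left U.hom) f.left U.hom :=
    IsPullback.of_iso (IsPullback.of_hasPullback f.left U.hom)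
      ((Over.forget _).mapIso E).symm (Iso.refl _) (Iso.refl _) (Iso.refl _)
      (by
        have := Over.w E.inv
        simpa [D, bundleDatum, Desc.toDD, Desc.canonicalDD] using this.symm)
      (by simp) (by simp) (by simp)
  let W : Over B := Over.mk (U.hom ≫ Y.hom)
  let φ : X ⊗ Z ⟶ W := Over.homMk (E.hom.left ≫ pullback.snd f.left U.hom) (by
    change _ ≫ U.hom ≫ Y.hom = _
    rw [← Category.assoc, ← hcart.w, Category.assoc, Over.w f, Over.w])
  let ψ : W ⟶ Y := Over.homMk U.hom rfl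
  refine ⟨W, φ, ψ, hcart, ?_⟩
  let P := G ⊗ (X ⊗ Z)
  let x₀ : P ⟶ X := snd G (X ⊗ Z) ≫ fst X Z
  let z₀ : P ⟶ Z := snd G (X ⊗ Z) ≫ snd X Z
  let g : P ⟶ G := fst G (X ⊗ Z)
  let x₁ : P ⟶ X := lift g x₀ ≫ a.act
  have hx : x₀.left ≫ f.left = x₁.left ≫ f.left := by
    have : x₁ ≫ f = x₀ ≫ f := by
      have hw : a.act ≫ f = snd G X ≫ f := Over.OverMorphism.ext hsq.w
      simp only [x₁, Category.assoc, hw, lift_snd_assoc]
    exact (congrArg CommaMorphism.left this).symm
  have hw : (G ◁ fst X Z) ≫ a.act = x₁ ∧ (G ◁ snd X Z) ≫ b.act = lift g z₀ ≫ b.act :=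
    ⟨congrArg (· ≫ a.act) (CartesianMonoidalCategory.hom_ext _ _ (by simp [g]) (by simp [x₀])),
      congrArg (· ≫ b.act) (CartesianMonoidalCategory.hom_ext _ _ (by simp [g]) (by simp [z₀]))⟩
  rw [hw.1, hw.2]
  have h1 := transport_eq a f hsq b x₀ x₁ z₀ g rfl hx (by rw [← Over.comp_left, lift_fst])
  let v : Desc.Lifts D.obj x₀.left := ⟨(lift x₀ z₀).left, by
    change (lift x₀ z₀).left ≫ (fst X Z).left = _
    rw [← Over.comp_left, lift_fst]⟩
  have h2 := e.inv.comm x₀.left x₁.left hx v (e.inv.push v) rfl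
  have h3 : (D.φ x₀.left x₁.left hx v).1 = (lift x₁ (lift g z₀ ≫ b.act)).left := h1
  rw [h3] at h2
  ext1
  change (lift x₁ (lift g z₀ ≫ b.act)).left ≫ E.hom.left ≫ pullback.snd _ _ =
    (snd G (X ⊗ Z)).left ≫ E.hom.left ≫ pullback.snd _ _
  rw [← Category.assoc, ← Category.assoc]
  change ((lift x₁ (lift g z₀ ≫ b.act)).left ≫ e.inv.hom.left) ≫ _ = _
  rw [← h2, show snd G (X ⊗ Z) = lift x₀ z₀ from (lift_comp_fst_snd _).symm]
  exact pullback.lift_snd _ _ _

end Groth.Agent.GrpScheme.Descent
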