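import Groth.Agent.SGA1Desc.Affine
import Groth.Agent.SGA1Desc.Glue
import Mathlib.AlgebraicGeometry.Sites.Fpqc
import Mathlib.AlgebraicGeometry.Morphisms.FlatDescent

/-!
# Effective descent of schemes affine over the source of a flat quasi-compact surjection
-/

set_option autoImplicit false
set_option linter.style.haveILetI false
set_option backward.isDefEq.respectTransparency false

universe u

open CategoryTheory CategoryTheory.Limits AlgebraicGeometry Topology TopologicalSpace
open Groth.Agent.SGA1Desc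

namespace Groth.Agent.GrpScheme.Descent

variable {X S X' S' : Scheme.{u}} {p : X ⟶ S}

/-- Points of a pulled back scheme. -/
noncomputable def liftsEquiv (V : Over X) (π : X' ⟶ X) {T : Scheme.{u}} (x : T ⟶ X') :
    Desc.Lifts (Over.mk (pullback.snd V.hom π)) x ≃ Desc.Lifts V (x ≫ π) where
  toFun v := ⟨v.1 ≫ pullback.fst V.hom π, by
    have e : v.1 ≫ pullback.snd V.hom π = x := v.2
    rw [Category.assoc, pullback.condition, ← Category.assoc, e]⟩
  invFun u := ⟨pullback.lift u.1 x u.2, pullback.lift_snd _ _ _⟩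
  left_inv v := Subtype.ext (pullback.hom_ext (pullback.lift_fst _ _ _)
    ((pullback.lift_snd _ _ _).trans v.2.symm))
  right_inv u := Subtype.ext (pullback.lift_fst _ _ _)

/-- The gluing bijection does not see the presentation of the source. -/
theorem phi_congr (D : Desc.SchDD p) {T : Scheme.{u}} {x₀ x₁ y₀ y₁ : T ⟶ X} (e₀ : x₀ = y₀)
    (e₁ : x₁ = y₁) (h : x₀ ≫ p = x₁ ≫ p) (h' : y₀ ≫ p = y₁ ≫ p) (v : Desc.Lifts D.obj x₀)
    (w : Desc.Lifts D.obj y₀) (hw : w.1 = v.1) : (D.φ y₀ y₁ h' w).1 = (D.φ x₀ x₁ h v).1 := by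
  subst e₀ e₁
  rw [show w = v from Subtype.ext hw]

/-- The datum induced over a commutative square. -/
noncomputable def pullDatum (D : Desc.SchDD p) (π : X' ⟶ X) (p' : X' ⟶ S') (ι : S' ⟶ S)
    (w : π ≫ p = p' ≫ ι) : Desc.SchDD p' where
  obj := Over.mk (pullback.snd D.obj.hom π)
  φ T x₀ x₁ h := (liftsEquiv D.obj π x₀).trans ((D.φ (x₀ ≫ π) (x₁ ≫ π) (by
    rw [Category.assoc, Category.assoc, w, reassoc_of% h])).trans (liftsEquiv D.obj π x₁).symm)
  φ_natural T T' g x₀ x₁ h h' v v' hv := by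
    refine pullback.hom_ext ?_ ?_
    · refine (pullback.lift_fst _ _ _).trans ?_
      refine Eq.trans ?_ (Category.assoc _ _ _).symm
      refine Eq.trans ?_ (congrArg (g ≫ ·) (pullback.lift_fst _ _ _).symm)
      have h₂ : (g ≫ x₀ ≫ π) ≫ p = (g ≫ x₁ ≫ π) ≫ p := by
        simp only [Category.assoc, w, reassoc_of% h]
      refine Eq.trans ?_ (D.φ_natural g (x₀ ≫ π) (x₁ ≫ π) (by
          simp only [Category.assoc, w, reassoc_of% h]) h₂ (liftsEquiv D.obj π x₀ v)
        ⟨g ≫ v.1 ≫ pullback.fst _ _, by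
          rw [Category.assoc]; exact congrArg (g ≫ ·) (liftsEquiv D.obj π x₀ v).2⟩ rfl)
      refine phi_congr D (Category.assoc _ _ _).symm (Category.assoc _ _ _).symm h₂ _ _ _ ?_
      change v'.1 ≫ _ = g ≫ v.1 ≫ _
      rw [hv, Category.assoc]
    · refine (pullback.lift_snd _ _ _).trans ?_
      rw [Category.assoc]
      exact congrArg (g ≫ ·) (pullback.lift_snd _ _ _).symm
  φ_self T x v := (liftsEquiv D.obj π x).injective (by
    simp only [Equiv.trans_apply, Equiv.apply_symm_apply]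
    exact D.φ_self _ _)
  φ_comp T x₀ x₁ x₂ h₀₁ h₁₂ v := by
    simp only [Equiv.trans_apply, Equiv.apply_symm_apply]
    rw [D.φ_comp]

/-- Related points of the induced datum. -/
theorem rel_pullDatum (D : Desc.SchDD p) (π : X' ⟶ X) (p' : X' ⟶ S') (ι : S' ⟶ S)
    (w : π ≫ p = p' ≫ ι) {T : Scheme.{u}} (a b : T ⟶ (pullDatum D π p' ι w).obj.left)
    (h : (a ≫ (pullDatum D π p' ι w).obj.hom) ≫ p' = (b ≫ (pullDatum D π p' ι w).obj.hom) ≫ p')
    (hab : Rel D (a ≫ pullback.fst D.obj.hom π) (b ≫ pullback.fst D.obj.hom π)) :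
    Rel (pullDatum D π p' ι w) a b := by
  refine ⟨h, pullback.hom_ext ?_ ?_⟩
  · refine (pullback.lift_fst _ _ _).trans ?_
    refine Eq.trans ?_ hab.2
    exact phi_congr D (by simp [pullDatum, Category.assoc, pullback.condition])
      (by simp [pullDatum, Category.assoc, pullback.condition]) _ _ _ _ rfl
  · exact pullback.lift_snd _ _ _

variable [Flat p] [Surjective p] [QuasiCompact p] (D : Desc.SchDD p) [IsAffineHom D.obj.hom]

set_option maxHeartbeats 1600000 in
/-- The part of a relatively affine datum over an affine open of the base descends. -/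
theorem exists_piece (U₀ : S.Opens) (hU : IsAffineOpen U₀) :
    Nonempty (Piece D (D.obj.hom ⁻¹ᵁ (p ⁻¹ᵁ U₀))) := by
  classical
  set W := D.obj.hom ⁻¹ᵁ (p ⁻¹ᵁ U₀) with hW
  have : IsAffine U₀.toScheme := hU
  let X₀ := (p ⁻¹ᵁ U₀).toScheme
  have : CompactSpace X₀ := isCompact_iff_compactSpace.1
    (QuasiCompact.isCompact_preimage _ U₀.isOpen hU.isCompact)
  let p₀ : X₀ ⟶ U₀.toScheme := p ∣_ U₀
  let 𝒰 := X₀.affineCover.finiteSubcover
  have : ∀ i, IsAffine (𝒰.X i) := fun i => by dsimp [𝒰]; infer_instance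
  let X' : Scheme.{u} := ∐ 𝒰.X
  let π : X' ⟶ X₀ := Sigma.desc 𝒰.f
  have hπlfp : LocallyOfFinitePresentation π :=
    IsZariskiLocalAtSource.sigmaDesc (P := @LocallyOfFinitePresentation) fun i => inferInstance
  have hπflat : Flat π := IsZariskiLocalAtSource.sigmaDesc (P := @Flat) fun i => inferInstance
  have hπsurj : Surjective π := ⟨fun x => by
    obtain ⟨i, y, rfl⟩ := 𝒰.exists_eq x
    exact ⟨Sigma.ι 𝒰.X i y, by rw [← Scheme.Hom.comp_apply, Sigma.ι_desc]⟩⟩
  let D' := pullDatum D (π ≫ (p ⁻¹ᵁ U₀).ι) (π ≫ p₀) U₀.ι (by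
    simp [p₀, Category.assoc, morphismRestrict_ι])
  have hobj : D'.obj.hom = pullback.snd D.obj.hom (π ≫ (p ⁻¹ᵁ U₀).ι) := rfl
  have : IsAffineHom D'.obj.hom :=
    MorphismProperty.pullback_snd (P := @IsAffineHom) _ _ inferInstance
  have : IsAffine D'.obj.left := isAffine_of_isAffineHom D'.obj.hom
  obtain ⟨P'⟩ := exists_piece_of_affine D' (isAffineOpen_top U₀.toScheme)
    (show IsAffineOpen ((π ≫ p₀) ⁻¹ᵁ ⊤) by simpa using isAffineOpen_top X')
    (isAffineOpen_top D'.obj.left) stable_top (by simp)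
  let Z' := D'.obj.left
  have : IsIso (⊤ : Z'.Opens).ι := Z'.topIso.isIso_hom
  let q' : Z' ⟶ P'.base := inv (⊤ : Z'.Opens).ι ≫ P'.q
  have hsq' : IsPullback q' D'.obj.hom P'.str (π ≫ p₀) :=
    IsPullback.of_iso P'.isPullback (asIso (⊤ : Z'.Opens).ι) (Iso.refl _) (Iso.refl _) (Iso.refl _)
      (by simp [q']) (by simp) (by simp) (by simp)
  have hq' : ∀ ⦃T : Scheme.{u}⦄ (a b : T ⟶ Z'), Rel D' a b → a ≫ q' = b ≫ q' := fun T a b hab => by
    simp only [q', ← Category.assoc]
    exact P'.compat _ _ (by simpa using hab)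
  -- the map to the part over `U₀`
  have hsqW : IsPullback W.ι (D.obj.hom ∣_ (p ⁻¹ᵁ U₀)) D.obj.hom (p ⁻¹ᵁ U₀).ι :=
    (isPullback_morphismRestrict D.obj.hom (p ⁻¹ᵁ U₀)).flip
  let g : Z' ⟶ W.toScheme := hsqW.lift (pullback.fst _ _) (pullback.snd _ _ ≫ π)
    (by rw [Category.assoc]; exact pullback.condition)
  have hg₁ : g ≫ W.ι = pullback.fst _ _ := hsqW.lift_fst ..
  have hg₂ : g ≫ (D.obj.hom ∣_ (p ⁻¹ᵁ U₀)) = D'.obj.hom ≫ π := hsqW.lift_snd ..
  have hsqg : IsPullback g D'.obj.hom (D.obj.hom ∣_ (p ⁻¹ᵁ U₀)) π :=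
    IsPullback.of_right (by rw [hg₁]; exact IsPullback.of_hasPullback _ _) hg₂ hsqW
  have : LocallyOfFinitePresentation g := MorphismProperty.of_isPullback hsqg.flip hπlfp
  have : Flat g := MorphismProperty.of_isPullback hsqg.flip hπflat
  have : Surjective g := MorphismProperty.of_isPullback hsqg.flip hπsurj
  have hstable : Stable D W := fun T a b hab t ht => by
    have e1 : (a ≫ D.obj.hom ≫ p).base t = (b ≫ D.obj.hom ≫ p).base t := by
      have := hab.1; simp only [Category.assoc] at this; rw [this]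
    simp only [hW, Scheme.Hom.comp_apply] at e1 ⊢
    change p.base (D.obj.hom.base (b.base t)) ∈ U₀
    rw [← e1]
    exact ht
  have key : ∀ ⦃T : Scheme.{u}⦄ (a b : T ⟶ Z'), Rel D (a ≫ g ≫ W.ι) (b ≫ g ≫ W.ι) →
      a ≫ q' = b ≫ q' := fun T a b hab => by
    refine hq' a b (rel_pullDatum D _ _ _ _ a b ?_ ?_)
    · rw [← cancel_mono U₀.ι]
      have := hab.1
      rw [hg₁] at this
      simp only [Category.assoc, pullback.condition_assoc] at this
      simpa [p₀, D', pullDatum, Category.assoc, morphismRestrict_ι] using this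
    · rwa [hg₁] at hab
  let q : W.toScheme ⟶ P'.base :=
    EffectiveEpi.desc g q' fun a b h => key a b (by rw [reassoc_of% h]; exact rel_refl _)
  have hgq : g ≫ q = q' := EffectiveEpi.fac _ _ _
  have hqw : q ≫ P'.str = (D.obj.hom ∣_ (p ⁻¹ᵁ U₀)) ≫ p₀ := by
    rw [← cancel_epi g, reassoc_of% hgq, hsq'.w, reassoc_of% hg₂]
  have hcompat : ∀ ⦃T : Scheme.{u}⦄ (a b : T ⟶ W.toScheme),
      Rel D (a ≫ W.ι) (b ≫ W.ι) → a ≫ q = b ≫ q := by
    intro T a b hab
    let t₁ := pullback.fst a g
    let t₂ := pullback.fst (t₁ ≫ b) g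
    have : LocallyOfFinitePresentation t₁ := MorphismProperty.pullback_fst _ _ inferInstance
    have : Flat t₁ := MorphismProperty.pullback_fst _ _ inferInstance
    have : Surjective t₁ := MorphismProperty.pullback_fst _ _ inferInstance
    have : LocallyOfFinitePresentation t₂ := MorphismProperty.pullback_fst _ _ inferInstance
    have : Flat t₂ := MorphismProperty.pullback_fst _ _ inferInstance
    have : Surjective t₂ := MorphismProperty.pullback_fst _ _ inferInstance
    rw [← cancel_epi t₁, ← cancel_epi t₂]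
    have ha : t₂ ≫ t₁ ≫ a = (t₂ ≫ pullback.snd a g) ≫ g := by
      rw [Category.assoc, pullback.condition]
    have hb : t₂ ≫ t₁ ≫ b = pullback.snd (t₁ ≫ b) g ≫ g := pullback.condition
    rw [reassoc_of% ha, reassoc_of% hb, hgq]
    refine key (t₂ ≫ pullback.snd a g) _ ?_
    have h := rel_comp (t₂ ≫ t₁) hab
    simp only [Category.assoc, reassoc_of% ha, reassoc_of% hb] at h ⊢
    exact h
  -- the square over `U₀` is cartesian
  let c := pullback.lift q (D.obj.hom ∣_ (p ⁻¹ᵁ U₀)) hqw
  let e := hsq'.isoPullback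
  let m : pullback P'.str (π ≫ p₀) ⟶ pullback P'.str p₀ :=
    pullback.lift (pullback.fst _ _) (pullback.snd _ _ ≫ π)
      (by rw [Category.assoc]; exact pullback.condition)
  have hm : IsPullback m (pullback.snd P'.str (π ≫ p₀)) (pullback.snd P'.str p₀) π :=
    IsPullback.of_right (by simpa [m] using IsPullback.of_hasPullback P'.str (π ≫ p₀))
      (pullback.lift_snd _ _ _) (IsPullback.of_hasPullback P'.str p₀)
  have hcm : IsPullback g e.hom c m := by
    refine IsPullback.of_bot ?_ ?_ hm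
    · simpa [e, c] using hsqg
    · refine pullback.hom_ext ?_ ?_
      · simp [c, m, e, hgq]
      · simp [c, m, e, hg₂]
  have : IsIso c := by
    let 𝒱 := 𝒰.pullback₁ (pullback.snd P'.str p₀)
    refine (IsZariskiLocalAtTarget.iff_of_openCover (P := .isomorphisms Scheme.{u}) 𝒱).2 fun i => ?_
    change IsIso (pullback.snd c (pullback.fst (pullback.snd P'.str p₀) (𝒰.f i)))
    let t : pullback (pullback.snd P'.str p₀) (𝒰.f i) ⟶ pullback P'.str (π ≫ p₀) :=
      pullback.lift (pullback.fst _ _ ≫ pullback.fst _ _) (pullback.snd _ _ ≫ Sigma.ι 𝒰.X i) (by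
        simp [π, Category.assoc, pullback.condition, pullback.condition_assoc])
    have ht : t ≫ m = pullback.fst (pullback.snd P'.str p₀) (𝒰.f i) := by
      refine pullback.hom_ext ?_ ?_ <;> simp [t, m, π, Category.assoc, pullback.condition]
    have h1 := (IsPullback.of_hasPullback e.hom t).flip.paste_vert hcm.flip
    rw [ht] at h1
    have h2 : IsIso (pullback.snd e.hom t) := inferInstance
    obtain ⟨i', hi'⟩ : ∃ i' : pullback c (pullback.fst (pullback.snd P'.str p₀) (𝒰.f i)) ≅
        pullback e.hom t, i'.hom ≫ pullback.snd _ _ = pullback.snd _ _ :=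
      ⟨(IsPullback.of_hasPullback c _).isoIsPullback _ _ h1.flip, by simp⟩
    rw [← hi']
    infer_instance
  have hsqU : IsPullback q (D.obj.hom ∣_ (p ⁻¹ᵁ U₀)) P'.str p₀ :=
    IsPullback.of_iso (IsPullback.of_hasPullback P'.str p₀) (asIso c).symm (Iso.refl _) (Iso.refl _)
      (Iso.refl _) (by simp [c]) (by simp [c]) (by simp) (by simp)
  refine ⟨{ stable := hstable, base := P'.base, str := P'.str ≫ U₀.ι, q := q,
            isPullback := ?_, compat := hcompat }⟩
  have := hsqU.paste_vert (isPullback_morphismRestrict p U₀)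
  rwa [morphismRestrict_ι] at this

/-- A relatively affine descent datum along a flat quasi-compact surjection is effective. -/
theorem effective_of_isAffineHom : ∃ U : Over S, Nonempty ((Desc.toDD p).obj U ≅ D) := by
  refine effective_of_pieces D fun z => ?_
  obtain ⟨U₀, hU, hz, -⟩ := exists_isAffineOpen_mem_and_subset
    (x := p (D.obj.hom z)) (U := ⊤) trivial
  exact ⟨_, hz, exists_piece D U₀ hU⟩

end Groth.Agent.GrpScheme.Descent
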